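import Groth.Agent.GalFunc.Exact

/-! Exact sequences of fundamental groups. -/

set_option autoImplicit false
universe u v w
open CategoryTheory CategoryTheory.Limits CategoryTheory.PreGaloisCategory
open scoped FintypeCatDiscrete

noncomputable section

namespace Groth.Agent.GalFunc

variable {C C' C'' : Type u} [Category.{v} C] [Category.{v} C'] [Category.{v} C'']
  [GaloisCategory C] [GaloisCategory C'] [GaloisCategory C'']
  (H : C ⥤ C') (H' : C' ⥤ C'') (F'' : C'' ⥤ FintypeCat.{w}) [FiberFunctor F''] [FiberFunctor (H' ⋙ F'')]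
  [FiberFunctor (H ⋙ (H' ⋙ F''))]

local notation "φ₁" => Pi1X.autWhisker H (H' ⋙ F'')
local notation "φ₂" => Pi1X.autWhisker H' F''

theorem ker_le_range_iff :
    (φ₁).ker ≤ (φ₂).range ↔
      ∀ (X' : C') (a' : (H' ⋙ F'').obj X'), PreGaloisCategory.IsConnected X' →
        (∃ s : ⊤_ C'' ⟶ H'.obj X', ∀ t : F''.obj (⊤_ C''), F''.map s t = a') →
          ∃ (X : C) (Y' : C') (i : Y' ⟶ H.obj X) (q : Y' ⟶ X'), Mono i ∧ PreGaloisCategory.IsConnected Y' := by
  constructor
  · intro h X' a' hX' hs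
    exact (ker_le_iff H (H' ⋙ F'') X' a').1 (h.trans ((le_stabilizer_iff_section H' F'' X' a').2 hs))
  · intro h
    refine closed_le_of_forall (H' ⋙ F'') (isClosed_range H' F'') _ fun X' a' hX' hle => ?_
    haveI := hX'
    exact (ker_le_iff H (H' ⋙ F'') X' a').2 (h X' a' hX' ((le_stabilizer_iff_section H' F'' X' a').1 hle))

theorem comp_trivial_iff :
    (∀ σ : Aut F'', φ₁ (φ₂ σ) = 1) ↔ ∀ X : C, ∃ n : ℕ, Nonempty (H'.obj (H.obj X) ≅ ∐ fun _ : Fin n => ⊤_ C'') := by
  refine ⟨fun h X => (trivial_iff F'' _).1 fun σ x => ?_, fun h σ => Iso.ext (NatTrans.ext (funext fun X => ?_))⟩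
  · exact (congrArg (fun g : Aut (H ⋙ (H' ⋙ F'')) => g • pt H (H' ⋙ F'') (pt H' F'' x)) (h σ)).trans (one_smul _ _)
  · exact FintypeCat.hom_ext _ _ fun x => (trivial_iff F'' _).2 (h X) σ x

omit [GaloisCategory C] [FiberFunctor (H ⋙ (H' ⋙ F''))] in
theorem range_trivial_iff (X' : C') :
    (∀ (σ : Aut F'') (x : (H' ⋙ F'').obj X'), φ₂ σ • x = x) ↔
      ∃ n : ℕ, Nonempty (H'.obj X' ≅ ∐ fun _ : Fin n => ⊤_ C'') :=
  ⟨fun h => (trivial_iff F'' _).1 h, fun h => (trivial_iff F'' _).2 h⟩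

theorem exists_iso_of_ker_trivial (hsurj : Function.Surjective φ₁) (X' : C')
    (htriv : ∀ σ ∈ (φ₁).ker, ∀ x : (H' ⋙ F'').obj X', σ • x = x) : ∃ X : C, Nonempty (H.obj X ≅ X') := by
  let S : Type w := (H' ⋙ F'').obj X'
  let sec := Function.surjInv hsurj
  have hsec : ∀ σ (x : (H' ⋙ F'').obj X'), sec (φ₁ σ) • x = σ • x := fun σ x => by
    have h := htriv (σ⁻¹ * sec (φ₁ σ)) (by
      rw [MonoidHom.mem_ker, map_mul, map_inv, Function.surjInv_eq hsurj, inv_mul_cancel]) x
    rwa [mul_smul, inv_smul_eq_iff] at h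
  letI : MulAction (Aut (H ⋙ (H' ⋙ F''))) S :=
    { smul := fun g x => (sec g • x : (H' ⋙ F'').obj X')
      one_smul := fun x => by
        show sec 1 • x = x
        rw [← map_one φ₁, hsec, one_smul]
      mul_smul := fun g h x => by
        show sec (g * h) • x = sec g • sec h • x
        obtain ⟨g, rfl⟩ := hsurj g
        obtain ⟨h, rfl⟩ := hsurj h
        rw [← map_mul, hsec, hsec, hsec, mul_smul] }
  obtain ⟨X, e, he⟩ := exists_obj_of_action (H ⋙ (H' ⋙ F'')) (S := S) fun x => by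
    have hq : Topology.IsQuotientMap φ₁ :=
      (continuous_autWhisker H (H' ⋙ F'')).isClosedMap.isQuotientMap (continuous_autWhisker H (H' ⋙ F'')) hsurj
    rw [← hq.isOpen_preimage]
    have : φ₁ ⁻¹' (MulAction.stabilizer (Aut (H ⋙ (H' ⋙ F''))) x : Set (Aut (H ⋙ (H' ⋙ F'')))) =
        (MulAction.stabilizer (Aut (H' ⋙ F'')) (x : (H' ⋙ F'').obj X') : Set (Aut (H' ⋙ F''))) := by
      ext σ
      show sec (φ₁ σ) • (x : (H' ⋙ F'').obj X') = x ↔ σ • (x : (H' ⋙ F'').obj X') = x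
      rw [hsec]
    rw [this]
    exact stabilizer_isOpen (Aut (H' ⋙ F'')) _
  obtain ⟨f, hf⟩ := exists_map (H' ⋙ F'') (X := H.obj X) (Y := X') (fun x => e (pt H (H' ⋙ F'') x)) fun σ x =>
    (he (φ₁ σ) (pt H (H' ⋙ F'') x)).trans (hsec σ _)
  haveI : IsIso f := isIso_of_bijective (H' ⋙ F'') f (by
    have h : ⇑(ConcreteCategory.hom ((H' ⋙ F'').map f)) = fun x => e (pt H (H' ⋙ F'') x) := funext hf
    rw [h]
    exact e.bijective)
  exact ⟨X, ⟨asIso f⟩⟩

variable [PreservesFiniteLimits H] [PreservesFiniteColimits H]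

theorem exact_iff :
    (Function.Surjective φ₁ ∧ (∀ σ : Aut F'', φ₁ (φ₂ σ) = 1) ∧
      (φ₁).ker = (Subgroup.normalClosure (Set.range φ₂)).topologicalClosure) ↔
    ((H.Full ∧ H.Faithful) ∧
      ∀ X' : C', (∃ X : C, Nonempty (H.obj X ≅ X')) ↔ ∃ n : ℕ, Nonempty (H'.obj X' ≅ ∐ fun _ : Fin n => ⊤_ C'')) := by
  constructor
  · rintro ⟨hsurj, htriv, hker⟩
    refine ⟨(surjective_iff_full_faithful H (H' ⋙ F'')).1 hsurj, fun X' => ⟨?_, fun h => ?_⟩⟩
    · rintro ⟨X, ⟨e⟩⟩
      obtain ⟨n, ⟨e'⟩⟩ := (comp_trivial_iff H H' F'').1 htriv X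
      exact ⟨n, ⟨H'.mapIso e.symm ≪≫ e'⟩⟩
    · refine exists_iso_of_ker_trivial H H' F'' hsurj X' fun σ hσ x => ?_
      rw [hker] at hσ
      let T : Subgroup (Aut (H' ⋙ F'')) :=
        { carrier := {g | ∀ x : (H' ⋙ F'').obj X', g • x = x}
          one_mem' := fun x => one_smul _ x
          mul_mem' := fun {a b} ha hb x => by rw [mul_smul, hb, ha]
          inv_mem' := fun {a} ha x => by rw [inv_smul_eq_iff, ha] }
      haveI : T.Normal := ⟨fun a ha g x => by
        show (g * a * g⁻¹) • x = x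
        rw [mul_smul, mul_smul, ha, smul_inv_smul]⟩
      have hT : IsClosed (T : Set (Aut (H' ⋙ F''))) := by
        have : (T : Set (Aut (H' ⋙ F''))) = ⋂ x : (H' ⋙ F'').obj X', {g | g • x = x} := by ext g; simp [T]
        rw [this]
        exact isClosed_iInter fun x => isClosed_eq (continuous_id.smul continuous_const) continuous_const
      refine (?_ : (Subgroup.normalClosure (Set.range φ₂)).topologicalClosure ≤ T) hσ x
      refine Subgroup.topologicalClosure_minimal _ (Subgroup.normalClosure_le_normal ?_) hT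
      rintro _ ⟨τ, rfl⟩
      exact (range_trivial_iff H' F'' X').2 h τ
  · rintro ⟨hff, hess⟩
    have hsurj := (surjective_iff_full_faithful H (H' ⋙ F'')).2 hff
    have htriv := (comp_trivial_iff H H' F'').2 fun X => (hess (H.obj X)).1 ⟨X, ⟨Iso.refl _⟩⟩
    refine ⟨hsurj, htriv, le_antisymm ?_ ?_⟩
    · refine closed_le_of_forall (H' ⋙ F'') (Subgroup.isClosed_topologicalClosure _) _ fun X' a' hX' hle σ hσ => ?_
      haveI := hX'
      haveI : (Subgroup.normalClosure (Set.range φ₂)).Normal := Subgroup.normalClosure_normal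
      have hfix : ∀ (τ : Aut F'') (x : (H' ⋙ F'').obj X'), φ₂ τ • x = x := fun τ x => by
        obtain ⟨g, rfl⟩ := MulAction.exists_smul_eq (Aut (H' ⋙ F'')) a' x
        have hmem : g⁻¹ * φ₂ τ * g ∈ Subgroup.normalClosure (Set.range φ₂) := by
          have := Subgroup.normalClosure_normal.conj_mem _ (Subgroup.subset_normalClosure (s := Set.range φ₂) ⟨τ, rfl⟩) g⁻¹
          rwa [inv_inv] at this
        have h2 := MulAction.mem_stabilizer_iff.1 (hle (Subgroup.le_topologicalClosure _ hmem))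
        rwa [mul_smul, mul_smul, inv_smul_eq_iff] at h2
      obtain ⟨X, ⟨e⟩⟩ := (hess X').2 ((range_trivial_iff H' F'' X').1 hfix)
      have ha : (H' ⋙ F'').map e.hom ((H' ⋙ F'').map e.inv a') = a' := by
        rw [← FintypeCat.comp_apply, ← Functor.map_comp, e.inv_hom_id, CategoryTheory.Functor.map_id]
        rfl
      rw [MulAction.mem_stabilizer_iff, ← ha, mulAction_naturality]
      refine congrArg _ ?_
      exact (congrArg (fun g : Aut (H ⋙ (H' ⋙ F'')) => g • pt H (H' ⋙ F'') ((H' ⋙ F'').map e.inv a'))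
        (MonoidHom.mem_ker.1 hσ)).trans (one_smul _ _)
    · refine Subgroup.topologicalClosure_minimal _ (Subgroup.normalClosure_le_normal ?_) ?_
      · rintro _ ⟨τ, rfl⟩
        exact htriv τ
      · exact isClosed_singleton.preimage (continuous_autWhisker H (H' ⋙ F''))

end Groth.Agent.GalFunc
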