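import Mathlib.CategoryTheory.Galois.Equivalence
import Groth.Agent.S8188

/-! Fixed points, stabilisers and equivariant maps in Galois categories. -/

set_option autoImplicit false
universe u v w
open CategoryTheory CategoryTheory.Limits CategoryTheory.PreGaloisCategory
open scoped FintypeCatDiscrete

noncomputable section

namespace Groth.Agent.GalFunc

variable {C : Type u} [Category.{v} C] [GaloisCategory C] (F : C ⥤ FintypeCat.{w}) [FiberFunctor F]

theorem subsingleton_terminal : Subsingleton (F.obj (⊤_ C)) ∧ Nonempty (F.obj (⊤_ C)) := by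
  let h : IsTerminal (F.obj (⊤_ C)) := terminalIsTerminal.isTerminalObj F
  refine ⟨⟨fun a b => ?_⟩, ⟨h.from (FintypeCat.of PUnit) PUnit.unit⟩⟩
  exact ConcreteCategory.congr_hom (h.hom_ext (FintypeCat.homMk fun _ : PUnit => a)
    (FintypeCat.homMk fun _ : (FintypeCat.of PUnit : FintypeCat.{w}) => b)) PUnit.unit

theorem map_terminal_fixed {X : C} (s : ⊤_ C ⟶ X) (t : F.obj (⊤_ C)) (σ : Aut F) :
    σ • F.map s t = F.map s t := by
  haveI := (subsingleton_terminal F).1
  rw [mulAction_naturality]
  exact congrArg (F.map s) (Subsingleton.elim _ _)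

theorem isIso_of_bijective {X Y : C} (f : X ⟶ Y) (h : Function.Bijective (F.map f)) : IsIso f := by
  haveI : IsIso (F.map f) := (ConcreteCategory.isIso_iff_bijective _).2 h
  exact isIso_of_reflects_iso f F

/-- Fixed points of the fundamental group are sections. -/
theorem fixed_iff_exists_section (X : C) (x : F.obj X) :
    (∀ σ : Aut F, σ • x = x) ↔ ∃ s : ⊤_ C ⟶ X, ∀ t, F.map s t = x := by
  haveI := (subsingleton_terminal F).1
  constructor
  · intro hx
    obtain ⟨Y, i, y, rfl, hY, hi⟩ := fiber_in_connected_component F X x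
    have hinj : Function.Injective (F.map i) := ConcreteCategory.injective_of_mono_of_preservesPullback (F.map i)
    have hsub : Subsingleton (F.obj Y) := ⟨fun a b => by
      obtain ⟨σ, rfl⟩ := MulAction.exists_smul_eq (Aut F) y a
      obtain ⟨τ, rfl⟩ := MulAction.exists_smul_eq (Aut F) y b
      exact hinj (by rw [← mulAction_naturality, ← mulAction_naturality, hx, hx])⟩
    haveI : IsIso (terminal.from Y) := isIso_of_bijective F _
      ⟨fun a b _ => Subsingleton.elim a b, fun t => ⟨y, Subsingleton.elim _ _⟩⟩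
    exact ⟨inv (terminal.from Y) ≫ i, fun t => by
      rw [F.map_comp, FintypeCat.comp_apply]
      exact congrArg (F.map i) (Subsingleton.elim _ _)⟩
  · rintro ⟨s, hs⟩ σ
    obtain ⟨t⟩ := (subsingleton_terminal F).2
    rw [← hs t]
    exact map_terminal_fixed F s t σ

theorem exists_pmap_ι {ι : Type*} [Finite ι] (f : ι → C) [HasCoproduct f] (x : F.obj (∐ f)) :
    ∃ (i : ι) (y : F.obj (f i)), F.map (Sigma.ι f i) y = x := by
  obtain ⟨⟨i⟩, y, hy⟩ := Concrete.isColimit_exists_rep _ (isColimitOfPreserves F (coproductIsCoproduct f)) x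
  exact ⟨i, y, hy⟩

/-- The fundamental group acts trivially exactly on sums of final objects. -/
theorem trivial_iff (X : C) :
    (∀ (σ : Aut F) (x : F.obj X), σ • x = x) ↔ ∃ n : ℕ, Nonempty (X ≅ ∐ fun _ : Fin n => ⊤_ C) := by
  haveI := (subsingleton_terminal F).1
  constructor
  · intro h
    choose s hs using fun x : F.obj X => (fixed_iff_exists_section F X x).1 fun σ => h σ x
    let e := Finite.equivFin (F.obj X)
    let d : (∐ fun _ : Fin (Nat.card (F.obj X)) => ⊤_ C) ⟶ X := Sigma.desc fun i => s (e.symm i)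
    haveI : IsIso d := isIso_of_bijective F d ⟨fun a b hab => by
      obtain ⟨i, a, rfl⟩ := exists_pmap_ι F _ a
      obtain ⟨j, b, rfl⟩ := exists_pmap_ι F _ b
      rw [← FintypeCat.comp_apply, ← FintypeCat.comp_apply, ← F.map_comp, ← F.map_comp, Sigma.ι_desc, Sigma.ι_desc,
        hs, hs] at hab
      obtain rfl := e.symm.injective hab
      rw [Subsingleton.elim a b], fun x => by
      obtain ⟨t⟩ := (subsingleton_terminal F).2
      refine ⟨F.map (Sigma.ι (fun _ : Fin (Nat.card (F.obj X)) => ⊤_ C) (e x)) t, ?_⟩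
      rw [← FintypeCat.comp_apply, ← F.map_comp, Sigma.ι_desc, hs, Equiv.symm_apply_apply]⟩
    exact ⟨_, ⟨(asIso d).symm⟩⟩
  · rintro ⟨n, ⟨e⟩⟩ σ x
    obtain ⟨i, t, ht⟩ := exists_pmap_ι F _ (F.map e.hom x)
    have hfix : σ • F.map e.hom x = F.map e.hom x := by rw [← ht]; exact map_terminal_fixed F _ t σ
    rw [mulAction_naturality] at hfix
    exact ((ConcreteCategory.isIso_iff_bijective (F.map e.hom)).1 inferInstance).1 hfix

theorem exists_map {X Y : C} (φ : F.obj X → F.obj Y) (h : ∀ (σ : Aut F) (x : F.obj X), φ (σ • x) = σ • φ x) :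
    ∃ f : X ⟶ Y, ∀ x, F.map f x = φ x := by
  let h' : (functorToAction F).obj X ⟶ (functorToAction F).obj Y :=
    ⟨FintypeCat.homMk φ, fun σ => FintypeCat.hom_ext _ _ fun x => h σ x⟩
  obtain ⟨f, hf⟩ := (functorToAction F).map_surjective h'
  exact ⟨f, fun x => congrArg (fun k : (functorToAction F).obj X ⟶ (functorToAction F).obj Y => k.hom x) hf⟩

theorem exists_map_of_stabilizer_le {X Y : C} [PreGaloisCategory.IsConnected X] (a : F.obj X) (b : F.obj Y)
    (h : MulAction.stabilizer (Aut F) a ≤ MulAction.stabilizer (Aut F) b) : ∃ f : X ⟶ Y, F.map f a = b := by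
  choose g hg using fun x : F.obj X => MulAction.exists_smul_eq (Aut F) a x
  have hwd : ∀ (σ τ : Aut F), σ • a = τ • a → σ • b = τ • b := fun σ τ e => by
    have h1 : τ⁻¹ * σ ∈ MulAction.stabilizer (Aut F) a := by
      rw [MulAction.mem_stabilizer_iff, mul_smul, e, inv_smul_smul]
    have h2 := MulAction.mem_stabilizer_iff.1 (h h1)
    rwa [mul_smul, inv_smul_eq_iff] at h2
  obtain ⟨f, hf⟩ := exists_map F (fun x => g x • b) fun σ x => by
    show g (σ • x) • b = σ • g x • b
    rw [← mul_smul]
    exact hwd _ _ (by rw [hg, mul_smul, hg])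
  exact ⟨f, (hf a).trans ((hwd _ 1 (by rw [hg, one_smul])).trans (one_smul _ b))⟩

theorem exists_obj_of_action {S : Type w} [Finite S] [MulAction (Aut F) S]
    (hS : ∀ s : S, IsOpen (MulAction.stabilizer (Aut F) s : Set (Aut F))) :
    ∃ (X : C) (e : F.obj X ≃ S), ∀ (σ : Aut F) (x : F.obj X), e (σ • x) = σ • e x := by
  let V : FintypeCat.{w} := FintypeCat.of S
  letI : MulAction (Aut F) V := inferInstanceAs (MulAction (Aut F) S)
  let Y : Action FintypeCat.{w} (Aut F) := Action.FintypeCat.ofMulAction (Aut F) V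
  let Y' : ContAction FintypeCat.{w} (Aut F) := ⟨Y, by
    haveI : DiscreteTopology ((forget₂ (Action FintypeCat.{w} (Aut F)) TopCat).obj Y) := ⟨rfl⟩
    exact continuousSMul_iff_stabilizer_isOpen.2 fun s => hS s⟩
  let i : (functorToAction F).obj ((functorToContAction F).objPreimage Y') ≅ Y :=
    (ObjectProperty.ι _).mapIso ((functorToContAction F).objObjPreimageIso Y')
  exact ⟨_, FintypeCat.equivEquivIso.symm ((Action.forget _ _).mapIso i), fun σ x =>
    ConcreteCategory.congr_hom (i.hom.comm σ) x⟩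

/-- Open subgroups are stabilisers of pointed connected objects. -/
theorem exists_stabilizer_eq (U : OpenSubgroup (Aut F)) :
    ∃ (X : C) (a : F.obj X), PreGaloisCategory.IsConnected X ∧ MulAction.stabilizer (Aut F) a = U.toSubgroup := by
  haveI : Finite (Aut F ⧸ U.toSubgroup) := U.toSubgroup.quotient_finite_of_isOpen U.isOpen'
  let S : Type w := ULift.{w} (Fin (Nat.card (Aut F ⧸ U.toSubgroup)))
  let e : S ≃ Aut F ⧸ U.toSubgroup := Equiv.ulift.trans (Finite.equivFin _).symm
  letI : MulAction (Aut F) S := e.mulAction (Aut F)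
  have hsmul : ∀ (σ : Aut F) (s : S), e (σ • s) = σ • e s := fun σ s => e.apply_symm_apply _
  have hst : ∀ s : S, MulAction.stabilizer (Aut F) s = MulAction.stabilizer (Aut F) (e s) := fun s =>
    Subgroup.ext fun σ => by rw [MulAction.mem_stabilizer_iff, MulAction.mem_stabilizer_iff, ← hsmul, e.injective.eq_iff]
  have hopen : ∀ s : S, IsOpen (MulAction.stabilizer (Aut F) s : Set (Aut F)) := fun s => by
    rw [hst]
    obtain ⟨g, hg⟩ := QuotientGroup.mk_surjective (e s)
    have : (MulAction.stabilizer (Aut F) (e s) : Set (Aut F)) = (fun x => g⁻¹ * x * g) ⁻¹' (U : Set (Aut F)) := by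
      ext σ
      rw [← hg]
      simp only [SetLike.mem_coe, MulAction.mem_stabilizer_iff, Set.mem_preimage, MulAction.Quotient.smul_mk,
        smul_eq_mul, QuotientGroup.eq]
      show _ ∈ U.toSubgroup ↔ g⁻¹ * σ * g ∈ U.toSubgroup
      conv_lhs => rw [← inv_mem_iff]
      simp [mul_assoc]
    rw [this]
    exact U.isOpen'.preimage (by fun_prop)
  obtain ⟨X, ε, hε⟩ := exists_obj_of_action F hopen
  let a := ε.symm (e.symm ((1 : Aut F) : Aut F ⧸ U.toSubgroup))
  have ha : MulAction.stabilizer (Aut F) a = U.toSubgroup := by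
    ext σ
    rw [MulAction.mem_stabilizer_iff, ← ε.injective.eq_iff, hε, ← e.injective.eq_iff, hsmul]
    simp only [a, Equiv.apply_symm_apply, MulAction.Quotient.smul_mk, smul_eq_mul, mul_one, QuotientGroup.eq, inv_mem_iff]
  obtain ⟨Y, i, y, hy, hY, hi⟩ := fiber_in_connected_component F X a
  refine ⟨Y, y, hY, ?_⟩
  have hinj : Function.Injective (F.map i) := ConcreteCategory.injective_of_mono_of_preservesPullback (F.map i)
  rw [← ha, ← hy]
  ext σ
  rw [MulAction.mem_stabilizer_iff, MulAction.mem_stabilizer_iff, mulAction_naturality, hinj.eq_iff]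

theorem closed_le_of_forall {R : Subgroup (Aut F)} (hR : IsClosed (R : Set (Aut F))) (N : Subgroup (Aut F))
    (h : ∀ (X : C) (a : F.obj X), PreGaloisCategory.IsConnected X → R ≤ MulAction.stabilizer (Aut F) a →
      N ≤ MulAction.stabilizer (Aut F) a) : N ≤ R := by
  rw [← Groth.Agent.S8188.result (Aut F) R hR]
  refine le_iInf fun U => ?_
  obtain ⟨X, a, hX, ha⟩ := exists_stabilizer_eq F U.1
  exact ha ▸ h X a hX (ha ▸ U.2)

theorem isConnected_of_transitive {X : C} (a : F.obj X) (h : ∀ b : F.obj X, ∃ σ : Aut F, σ • a = b) :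
    PreGaloisCategory.IsConnected X where
  notInitial := not_initial_of_inhabited F a
  noTrivialComponent Y i _ hY := by
    obtain ⟨y⟩ := (not_initial_iff_fiber_nonempty F Y).1 hY
    refine isIso_of_bijective F i ⟨ConcreteCategory.injective_of_mono_of_preservesPullback (F.map i), fun b => ?_⟩
    obtain ⟨σ, hσ⟩ := h (F.map i y)
    obtain ⟨τ, hτ⟩ := h b
    exact ⟨(τ * σ⁻¹) • y, by rw [← mulAction_naturality, ← hσ, mul_smul, inv_smul_smul, hτ]⟩

end Groth.Agent.GalFunc
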