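import Groth.Agent.GalFunc.Basic
import Groth.Agent.FiberUnique
import Groth.Prelude.Def_Pi1X

/-! Exact functors of Galois categories and the induced maps of fundamental groups. -/

set_option autoImplicit false
universe u v w
open CategoryTheory CategoryTheory.Limits CategoryTheory.PreGaloisCategory
open scoped FintypeCatDiscrete

noncomputable section

namespace Groth.Agent.GalFunc

variable {C C' : Type u} [Category.{v} C] [Category.{v} C'] [GaloisCategory C] [GaloisCategory C']
  (H : C ⥤ C') (F' : C' ⥤ FintypeCat.{w}) [FiberFunctor F'] [FiberFunctor (H ⋙ F')]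

local notation "φ" => Pi1X.autWhisker H F'

omit [GaloisCategory C] [GaloisCategory C'] [FiberFunctor (H ⋙ F')] in
theorem continuous_autWhisker : Continuous φ :=
  (autEmbedding_isClosedEmbedding (H ⋙ F')).isEmbedding.continuous_iff.2 (continuous_pi fun X =>
    (continuous_apply (H.obj X)).comp (autEmbedding_isClosedEmbedding F').continuous)

theorem isClosed_range : IsClosed ((φ).range : Set (Aut (H ⋙ F'))) :=
  (isCompact_range (continuous_autWhisker H F')).isClosed

/-- A point of `F' (H X)` as a point of `(H ⋙ F') X`. -/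
abbrev pt {X : C} (x : F'.obj (H.obj X)) : (H ⋙ F').obj X := x

/-- A point of `(H ⋙ F') X` as a point of `F' (H X)`. -/
abbrev pt' {X : C} (x : (H ⋙ F').obj X) : F'.obj (H.obj X) := x

theorem le_stabilizer_iff_section (X : C) (a : (H ⋙ F').obj X) :
    (φ).range ≤ MulAction.stabilizer (Aut (H ⋙ F')) a ↔
      ∃ s : ⊤_ C' ⟶ H.obj X, ∀ t : F'.obj (⊤_ C'), F'.map s t = a := by
  rw [← fixed_iff_exists_section F' (H.obj X) a]
  exact ⟨fun h σ => h ⟨σ, rfl⟩, fun h g ⟨σ, hσ⟩ => hσ ▸ h σ⟩

theorem normalClosure_le_stabilizer_iff (X : C) [PreGaloisCategory.IsConnected X] (a : (H ⋙ F').obj X) :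
    Subgroup.normalClosure ((φ).range : Set (Aut (H ⋙ F'))) ≤ MulAction.stabilizer (Aut (H ⋙ F')) a ↔
      ∃ n : ℕ, Nonempty (H.obj X ≅ ∐ fun _ : Fin n => ⊤_ C') := by
  rw [← trivial_iff F' (H.obj X)]
  constructor
  · intro h σ x
    obtain ⟨g, rfl⟩ := MulAction.exists_smul_eq (Aut (H ⋙ F')) a x
    have hmem : g⁻¹ * φ σ * g ∈ Subgroup.normalClosure ((φ).range : Set (Aut (H ⋙ F'))) := by
      have := Subgroup.normalClosure_normal.conj_mem _
        (Subgroup.subset_normalClosure (s := ((φ).range : Set (Aut (H ⋙ F')))) ⟨σ, rfl⟩) g⁻¹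
      rwa [inv_inv] at this
    have h2 := MulAction.mem_stabilizer_iff.1 (h hmem)
    rw [mul_smul, mul_smul, inv_smul_eq_iff] at h2
    exact h2
  · intro h g hg
    rw [MulAction.mem_stabilizer_iff]
    induction hg using Subgroup.closure_induction with
    | mem g hg =>
      obtain ⟨b, ⟨σ, rfl⟩, hconj⟩ := Group.mem_conjugatesOfSet_iff.1 hg
      obtain ⟨c, rfl⟩ := isConj_iff.1 hconj
      rw [mul_smul, mul_smul, show φ σ • (c⁻¹ • a) = c⁻¹ • a from h σ _, smul_inv_smul]
    | one => exact one_smul _ a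
    | mul x y _ _ hx hy => rw [mul_smul, hy, hx]
    | inv x _ hx => rw [inv_smul_eq_iff, hx]

theorem nonempty_fiber_prod {ι : Type} [Finite ι] (X : ι → C) (x : ∀ i, (H ⋙ F').obj (X i)) :
    ∃ p : (H ⋙ F').obj (∏ᶜ X), ∀ i, (H ⋙ F').map (Pi.π X i) p = x i := by
  let e := PreservesProduct.iso (H ⋙ F') X
  let y := (FintypeCat.productEquiv fun i => (H ⋙ F').obj (X i)).symm x
  refine ⟨e.inv y, fun i => ?_⟩
  have h : e.inv ≫ (H ⋙ F').map (Pi.π X i) = Pi.π _ i := by
    rw [Iso.inv_comp_eq, PreservesProduct.iso_hom, piComparison_comp_π]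
  exact (ConcreteCategory.congr_hom h y).trans (FintypeCat.productEquiv_symm_comp_π_apply _ x i)

theorem exists_dominating {U : Subgroup (Aut F')} (hU : IsOpen (U : Set (Aut F'))) (hker : (φ).ker ≤ U) :
    ∃ (X : C) (y : F'.obj (H.obj X)), MulAction.stabilizer (Aut F') y ≤ U := by
  let S : (Σ X : C, (H ⋙ F').obj X) → Set (Aut F') := fun p => φ ⁻¹' {g | g • p.2 = p.2}
  have hS : ∀ p, IsClosed (S p) := fun p =>
    (isClosed_eq (continuous_id.smul continuous_const) continuous_const).preimage (continuous_autWhisker H F')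
  obtain ⟨s, hs⟩ := hU.isClosed_compl.isCompact.elim_finite_subfamily_closed S hS (by
    rw [Set.eq_empty_iff_forall_notMem]
    rintro σ ⟨hσU, hσ⟩
    refine hσU (hker (MonoidHom.mem_ker.2 (Iso.ext (NatTrans.ext (funext fun X => ?_)))))
    exact FintypeCat.hom_ext _ _ fun x => Set.mem_iInter.1 hσ ⟨X, x⟩)
  let k : Fin (Nat.card ↥s) ≃ ↥s := (Finite.equivFin ↥s).symm
  obtain ⟨p, hp⟩ := nonempty_fiber_prod H F' (fun i => (k i).1.1) fun i => (k i).1.2
  refine ⟨∏ᶜ fun i => (k i).1.1, p, fun σ hσ => ?_⟩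
  by_contra hσU
  refine (Set.eq_empty_iff_forall_notMem.1 hs) σ ⟨hσU, Set.mem_iInter₂.2 fun q hq => ?_⟩
  show φ σ • q.2 = q.2
  obtain ⟨i, hi⟩ := k.surjective ⟨q, hq⟩
  obtain rfl : (k i).1 = q := congrArg Subtype.val hi
  rw [← hp i]
  exact (mulAction_naturality (F := H ⋙ F') (φ σ) (Pi.π (fun i => (k i).1.1) i) p).trans
    (congrArg ((H ⋙ F').map (Pi.π (fun i => (k i).1.1) i)) (MulAction.mem_stabilizer_iff.1 hσ))

theorem ker_le_iff (X' : C') [PreGaloisCategory.IsConnected X'] (a' : F'.obj X') :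
    (φ).ker ≤ MulAction.stabilizer (Aut F') a' ↔
      ∃ (X : C) (Y' : C') (i : Y' ⟶ H.obj X) (q : Y' ⟶ X'), Mono i ∧ PreGaloisCategory.IsConnected Y' := by
  constructor
  · intro h
    obtain ⟨X, y, hy⟩ := exists_dominating H F' (stabilizer_isOpen (Aut F') a') h
    obtain ⟨Y', i, z, hz, hY', hi⟩ := fiber_in_connected_component F' (H.obj X) y
    obtain ⟨q, -⟩ := exists_map_of_stabilizer_le F' z a' (le_trans (fun σ hσ => by
      rw [MulAction.mem_stabilizer_iff] at hσ ⊢
      rw [← hz, mulAction_naturality, hσ]) hy)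
    exact ⟨X, Y', i, q, hi, hY'⟩
  · rintro ⟨X, Y', i, q, hi, hY'⟩ σ hσ
    obtain ⟨y, rfl⟩ := surjective_of_nonempty_fiber_of_isConnected F' q a'
    rw [MulAction.mem_stabilizer_iff, mulAction_naturality]
    refine congrArg _ (ConcreteCategory.injective_of_mono_of_preservesPullback (F'.map i) ?_)
    rw [← mulAction_naturality]
    have h1 : φ σ = 1 := hσ
    exact (congrArg (fun g : Aut (H ⋙ F') => g • pt H F' (F'.map i y)) h1).trans (one_smul _ _)

theorem injective_iff :
    Function.Injective φ ↔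
      ∀ X' : C', PreGaloisCategory.IsConnected X' → ∃ (X : C) (Y' : C') (p : Y' ⟶ X') (q : Y' ⟶ H.obj X), Epi p ∧ Mono q := by
  constructor
  · intro h X' hX'
    obtain ⟨a'⟩ := nonempty_fiber_of_isConnected F' X'
    obtain ⟨X, Y', i, q, hi, hY'⟩ := (ker_le_iff H F' X' a').1 fun σ hσ => by
      rw [h (hσ.trans (map_one φ).symm), MulAction.mem_stabilizer_iff, one_smul]
    haveI : Nonempty (F'.obj Y') := nonempty_fiber_of_isConnected F' Y'
    exact ⟨X, Y', q, i, epi_of_nonempty_of_isConnected F' q, hi⟩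
  · intro h
    refine (injective_iff_map_eq_one φ).2 fun σ hσ => Iso.ext (NatTrans.ext (funext fun X' => ?_))
    refine FintypeCat.hom_ext _ _ fun x => ?_
    obtain ⟨Y, i, y, rfl, hY, hi⟩ := fiber_in_connected_component F' X' x
    obtain ⟨X, Y', p, q, hp, hq⟩ := h Y hY
    obtain ⟨z, rfl⟩ := surjective_on_fiber_of_epi F' p y
    show σ • F'.map i (F'.map p z) = F'.map i (F'.map p z)
    rw [mulAction_naturality, mulAction_naturality]
    refine congrArg _ (congrArg _ (ConcreteCategory.injective_of_mono_of_preservesPullback (F'.map q) ?_))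
    rw [← mulAction_naturality]
    exact (congrArg (fun g : Aut (H ⋙ F') => g • pt H F' (F'.map q z)) hσ).trans (one_smul _ _)

theorem surjective_iff_isConnected :
    Function.Surjective φ ↔ ∀ X : C, PreGaloisCategory.IsConnected X → PreGaloisCategory.IsConnected (H.obj X) := by
  constructor
  · intro h X hX
    obtain ⟨a⟩ := nonempty_fiber_of_isConnected (H ⋙ F') X
    refine isConnected_of_transitive F' (pt' H F' a) fun b => ?_
    obtain ⟨g, hg⟩ := MulAction.exists_smul_eq (Aut (H ⋙ F')) a b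
    obtain ⟨σ, rfl⟩ := h g
    exact ⟨σ, hg⟩
  · intro h
    refine MonoidHom.range_eq_top.1 (eq_top_iff.2 (closed_le_of_forall (H ⋙ F') (isClosed_range H F') _
      fun X a hX hle g _ => ?_))
    haveI := h X hX
    obtain ⟨σ, hσ⟩ := MulAction.exists_smul_eq (Aut F') (pt' H F' a) (pt' H F' (g • a))
    rw [MulAction.mem_stabilizer_iff]
    exact hσ.symm.trans (MulAction.mem_stabilizer_iff.1 (hle ⟨σ, rfl⟩))

theorem full_faithful_of_surjective (h : Function.Surjective φ) : H.Full ∧ H.Faithful := by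
  refine ⟨⟨fun {X Y} g => ?_⟩, Functor.Faithful.of_comp H F'⟩
  obtain ⟨f, hf⟩ := exists_map (H ⋙ F') (X := X) (Y := Y) (fun x => F'.map g x) fun γ x => by
    obtain ⟨σ, rfl⟩ := h γ
    exact (mulAction_naturality (F := F') σ g x).symm
  exact ⟨f, F'.map_injective (FintypeCat.hom_ext _ _ hf)⟩

variable [PreservesFiniteLimits H] [PreservesFiniteColimits H]

theorem surjective_of_full_faithful [H.Full] [H.Faithful] : Function.Surjective φ := by
  refine (surjective_iff_isConnected H F').2 fun X hX => ?_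
  obtain ⟨a⟩ := nonempty_fiber_of_isConnected (H ⋙ F') X
  refine isConnected_of_transitive F' (pt' H F' a) fun b => ?_
  by_contra hb
  -- the orbit of `a` and its complement are separated by a morphism of `C'`, hence of `C`
  let B := ∐ fun _ : Fin 2 => ⊤_ C
  obtain ⟨t⟩ := (subsingleton_terminal (H ⋙ F')).2
  let p : Fin 2 → (H ⋙ F').obj B := fun i => (H ⋙ F').map (Sigma.ι (fun _ : Fin 2 => ⊤_ C) i) t
  have hp : ∀ i (g : Aut (H ⋙ F')), g • p i = p i := fun i g => map_terminal_fixed (H ⋙ F') _ t g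
  have hne : p 0 ≠ p 1 := fun h => by
    let e := PreservesCoproduct.iso (H ⋙ F') fun _ : Fin 2 => ⊤_ C
    have he : ∀ i, e.hom (p i) = Sigma.ι (fun _ : Fin 2 => (H ⋙ F').obj (⊤_ C)) i t := fun i =>
      ConcreteCategory.congr_hom (show (H ⋙ F').map (Sigma.ι (fun _ : Fin 2 => ⊤_ C) i) ≫ e.hom =
        Sigma.ι (fun _ : Fin 2 => (H ⋙ F').obj (⊤_ C)) i by
        rw [← Iso.eq_comp_inv, PreservesCoproduct.inv_hom, ι_comp_sigmaComparison]) t
    have h1 := congrArg e.hom h
    rw [he, he] at h1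
    let d : (∐ fun _ : Fin 2 => (H ⋙ F').obj (⊤_ C)) ⟶ FintypeCat.of (ULift.{w} (Fin 2)) :=
      Sigma.desc fun i => FintypeCat.homMk fun _ => ULift.up i
    have hd : ∀ i, d (Sigma.ι (fun _ : Fin 2 => (H ⋙ F').obj (⊤_ C)) i t) = ULift.up i := fun i =>
      ConcreteCategory.congr_hom (Sigma.ι_desc (fun i => (FintypeCat.homMk fun _ => ULift.up i :
        (H ⋙ F').obj (⊤_ C) ⟶ FintypeCat.of (ULift.{w} (Fin 2)))) i) t
    have h2 := congrArg d h1
    rw [hd, hd] at h2
    exact absurd (congrArg ULift.down h2) (by decide)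
  classical
  obtain ⟨g, hg⟩ := exists_map F' (X := H.obj X) (Y := H.obj B)
    (fun x => if ∃ σ : Aut F', σ • pt' H F' a = x then p 0 else p 1) fun σ x => by
    have hiff : (∃ τ : Aut F', τ • pt' H F' a = σ • x) ↔ ∃ τ : Aut F', τ • pt' H F' a = x :=
      ⟨fun ⟨τ, hτ⟩ => ⟨σ⁻¹ * τ, by rw [mul_smul, hτ, inv_smul_smul]⟩, fun ⟨τ, hτ⟩ => ⟨σ * τ, by rw [mul_smul, hτ]⟩⟩
    simp only [hiff]
    split_ifs <;> exact (hp _ (φ σ)).symm
  obtain ⟨f, rfl⟩ := H.map_surjective g
  obtain ⟨γ, hγ⟩ := MulAction.exists_smul_eq (Aut (H ⋙ F')) a b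
  have hA := hg (pt' H F' a)
  have hB := hg b
  rw [if_pos ⟨1, one_smul _ _⟩] at hA
  rw [if_neg hb] at hB
  refine hne ?_
  rw [← hp 0 γ, ← hB, ← hA, ← hγ]
  exact mulAction_naturality (F := H ⋙ F') γ f a

theorem surjective_iff_full_faithful : Function.Surjective φ ↔ (H.Full ∧ H.Faithful) :=
  ⟨full_faithful_of_surjective H F', fun ⟨_, _⟩ => surjective_of_full_faithful H F'⟩

omit [FiberFunctor F'] [FiberFunctor (H ⋙ F')] in
theorem full_faithful_iff_isConnected :
    (H.Full ∧ H.Faithful) ↔ ∀ X : C, PreGaloisCategory.IsConnected X → PreGaloisCategory.IsConnected (H.obj X) := by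
  let G' := GaloisCategory.getFiberFunctor C'
  haveI : PreservesFiniteLimits G' := inferInstance
  haveI : PreservesFiniteLimits (H ⋙ G') := comp_preservesFiniteLimits H G'
  haveI := Groth.Agent.FiberUnique.reflectsIsomorphisms (GaloisCategory.getFiberFunctor C) (H ⋙ G')
  haveI : FiberFunctor (H ⋙ G') :=
    { preservesQuotientsByFiniteGroups := fun G _ _ => by
        obtain ⟨G₀, _, _, ⟨e⟩⟩ := Finite.exists_type_univ_nonempty_mulEquiv.{v, 0} G
        letI : FinCategory (SingleObj G₀) :=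
          { fintypeObj := inferInstanceAs (Fintype Unit), fintypeHom := fun _ _ => Fintype.ofFinite G₀ }
        haveI : PreservesColimitsOfShape (SingleObj G) H :=
          preservesColimitsOfShape_of_equiv e.toSingleObjEquiv.symm H
        infer_instance }
  exact (surjective_iff_full_faithful H G').symm.trans (surjective_iff_isConnected H G')

end Groth.Agent.GalFunc
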