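import Groth.Agent.GalFunc.Basic
import Groth.Agent.FiberUnique

/-! Left exact functors to finite sets preserving binary coproducts and detecting initial objects. -/

set_option autoImplicit false
universe u v w
open CategoryTheory CategoryTheory.Limits CategoryTheory.PreGaloisCategory
open scoped FintypeCatDiscrete

noncomputable section

namespace Groth.Agent.GalFunc

variable {C : Type u} [Category.{v} C] [GaloisCategory C]

theorem isEmpty_map_initial (F' : C ⥤ FintypeCat.{w})
    [PreservesColimitsOfShape (Discrete WalkingPair) F'] : IsEmpty (F'.obj (⊥_ C)) := by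
  let i : ⊥_ C ⟶ ⊥_ C := 𝟙 _
  have hc : IsColimit (BinaryCofan.mk i i) := BinaryCofan.IsColimit.mk _ (fun f _ => f)
    (fun f g => Category.id_comp f) (fun f g => initialIsInitial.hom_ext _ _) (fun f g m _ _ => initialIsInitial.hom_ext _ _)
  have hc' := mapIsColimitOfPreservesOfIsColimit F' i i hc
  refine ⟨fun x => ?_⟩
  let a : F'.obj (⊥_ C) ⟶ FintypeCat.of (ULift.{w} Bool) := FintypeCat.homMk fun _ => ULift.up true
  let b : F'.obj (⊥_ C) ⟶ FintypeCat.of (ULift.{w} Bool) := FintypeCat.homMk fun _ => ULift.up false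
  obtain ⟨d, hd₁, hd₂⟩ := BinaryCofan.IsColimit.desc' hc' a b
  have h1 := ConcreteCategory.congr_hom hd₁ x
  have h2 := ConcreteCategory.congr_hom hd₂ x
  have h3 : ULift.up.{w} true = ULift.up false := h1.symm.trans h2
  exact Bool.noConfusion (congrArg ULift.down h3)

theorem preservesFiniteCoproducts_of_binary (F' : C ⥤ FintypeCat.{w})
    [PreservesColimitsOfShape (Discrete WalkingPair) F'] : PreservesFiniteCoproducts F' := by
  haveI := isEmpty_map_initial F'
  have hempty : IsInitial (F'.obj (⊥_ C)) := IsInitial.ofUniqueHom (fun T => FintypeCat.homMk fun x => isEmptyElim x)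
    fun T m => FintypeCat.hom_ext _ _ fun x => isEmptyElim x
  haveI : PreservesColimit (Functor.empty.{0} C) F' :=
    preservesInitial_of_iso F' (initialIsInitial.uniqueUpToIso hempty)
  haveI : PreservesColimitsOfShape (Discrete PEmpty.{1}) F' := preservesColimitsOfShape_pempty_of_preservesInitial F'
  exact ⟨fun n => preservesShape_fin_of_preserves_binary_and_initial F' n⟩

variable (F : C ⥤ FintypeCat.{v}) [FiberFunctor F] (F' : C ⥤ FintypeCat.{v}) [PreservesFiniteLimits F']

theorem pair_ext {A X : C} {u u' : F.obj (A ⨯ X)}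
    (h1 : F.map (prod.fst : A ⨯ X ⟶ A) u = F.map (prod.fst : A ⨯ X ⟶ A) u')
    (h2 : F.map (prod.snd : A ⨯ X ⟶ X) u = F.map (prod.snd : A ⨯ X ⟶ X) u') : u = u' := by
  obtain ⟨⟨u₁, u₂⟩, rfl⟩ := (fiberBinaryProductEquiv F A X).symm.surjective u
  obtain ⟨⟨v₁, v₂⟩, rfl⟩ := (fiberBinaryProductEquiv F A X).symm.surjective u'
  rw [fiberBinaryProductEquiv_symm_fst_apply, fiberBinaryProductEquiv_symm_fst_apply] at h1
  rw [fiberBinaryProductEquiv_symm_snd_apply, fiberBinaryProductEquiv_symm_snd_apply] at h2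
  rw [h1, h2]

include F in
theorem eq_of_map_eq [PreservesFiniteCoproducts F'] {A X : C} [PreGaloisCategory.IsConnected A] (s : F'.obj A)
    {f g : A ⟶ X} (h : F'.map f s = F'.map g s) : f = g := by
  by_contra hfg
  have hempty : IsEmpty (F.obj (equalizer f g)) := ⟨fun x => hfg (by
    haveI : IsIso (equalizer.ι f g) :=
      PreGaloisCategory.IsConnected.noTrivialComponent _ _ (not_initial_of_inhabited F x)
    exact (cancel_epi (equalizer.ι f g)).1 (equalizer.condition f g))⟩
  obtain ⟨hI⟩ := (initial_iff_fiber_empty F _).2 hempty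
  let pt1 : FintypeCat.of PUnit.{v + 1} ⟶ F'.obj A := FintypeCat.homMk fun _ => s
  obtain ⟨l, -⟩ := Fork.IsLimit.lift' (isLimitForkMapOfIsLimit F' (equalizer.condition f g) (equalizerIsEqualizer f g))
    pt1 (FintypeCat.hom_ext _ _ fun _ => h)
  have hI' : IsInitial (F'.obj (equalizer f g)) := IsInitial.isInitialObj F' _ hI
  let t : F'.obj (equalizer f g) ⟶ FintypeCat.of PEmpty.{v + 1} := hI'.to _
  exact (t (l PUnit.unit)).elim

/-- The sum of the graphs of the morphisms from `A` to `X`. -/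
def graphs (A X : C) [PreGaloisCategory.IsConnected A] : (∐ fun _ : Fin (Nat.card (A ⟶ X)) => A) ⟶ A ⨯ X :=
  Sigma.desc fun i => prod.lift (𝟙 A) ((Finite.equivFin (A ⟶ X)).symm i)

theorem ι_graphs (A X : C) [PreGaloisCategory.IsConnected A] (i : Fin (Nat.card (A ⟶ X))) :
    Sigma.ι (fun _ : Fin (Nat.card (A ⟶ X)) => A) i ≫ graphs A X =
      prod.lift (𝟙 A) ((Finite.equivFin (A ⟶ X)).symm i) :=
  Sigma.ι_desc _ _

include F in
theorem isIso_graphs (A X : C) [IsGalois A] (a : F.obj A) (hb : Function.Bijective fun f : A ⟶ X => F.map f a) :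
    IsIso (graphs A X) := by
  refine isIso_of_bijective F _ ⟨fun p q hpq => ?_, fun z => ?_⟩
  · obtain ⟨i, p, rfl⟩ := exists_pmap_ι F _ p
    obtain ⟨j, q, rfl⟩ := exists_pmap_ι F _ q
    rw [← FintypeCat.comp_apply, ← FintypeCat.comp_apply, ← F.map_comp, ← F.map_comp, ι_graphs, ι_graphs] at hpq
    have h1 := congrArg (F.map (prod.fst : A ⨯ X ⟶ A)) hpq
    rw [← FintypeCat.comp_apply, ← FintypeCat.comp_apply, ← F.map_comp, ← F.map_comp, prod.lift_fst, prod.lift_fst,
      CategoryTheory.Functor.map_id] at h1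
    obtain rfl : p = q := h1
    have h2 := congrArg (F.map (prod.snd : A ⨯ X ⟶ X)) hpq
    rw [← FintypeCat.comp_apply, ← FintypeCat.comp_apply, ← F.map_comp, ← F.map_comp, prod.lift_snd, prod.lift_snd] at h2
    obtain rfl : i = j := (Finite.equivFin (A ⟶ X)).symm.injective (evaluation_injective_of_isConnected F A X p h2)
    rfl
  · obtain ⟨σ, hσ⟩ := MulAction.exists_smul_eq (Aut A) a (F.map (prod.fst : A ⨯ X ⟶ A) z)
    obtain ⟨f, hf⟩ := hb.2 (F.map (prod.snd : A ⨯ X ⟶ X) z)
    refine ⟨F.map (Sigma.ι (fun _ : Fin (Nat.card (A ⟶ X)) => A) (Finite.equivFin (A ⟶ X) (σ.inv ≫ f)))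
      (F.map (prod.fst : A ⨯ X ⟶ A) z), pair_ext F ?_ ?_⟩
    · rw [← FintypeCat.comp_apply, ← FintypeCat.comp_apply, ← F.map_comp, ← F.map_comp, ← Category.assoc, ι_graphs,
        prod.lift_fst, CategoryTheory.Functor.map_id]
      rfl
    · rw [← hσ, ← hf, ← FintypeCat.comp_apply, ← FintypeCat.comp_apply, ← F.map_comp, ← F.map_comp]
      rw [← Category.assoc (Sigma.ι _ _), ι_graphs, prod.lift_snd, Equiv.symm_apply_apply]
      show F.map (σ.inv ≫ f) (F.map σ.hom a) = F.map f a
      rw [← FintypeCat.comp_apply, ← F.map_comp, Iso.hom_inv_id_assoc]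

/-- The cocone given by a compatible family of points. -/
def sectionCocone (s : ∀ A : PointedGaloisObject F, F'.obj A.obj)
    (hs : ∀ {A B : PointedGaloisObject F} (φ : A ⟶ B), F'.map φ.val (s A) = s B) :
    Cocone ((PointedGaloisObject.incl F).op ⋙ coyoneda) where
  pt := F' ⋙ FintypeCat.incl
  ι :=
  { app := fun A =>
      { app := fun X => TypeCat.ofHom fun f => F'.map f (s A.unop)
        naturality := fun X Y g => by
          ext f
          exact ConcreteCategory.congr_hom (F'.map_comp f g) (s A.unop) }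
    naturality := fun A B φ => by
      ext X f
      show F'.map (φ.unop.val ≫ f) (s B.unop) = F'.map f (s A.unop)
      rw [F'.map_comp, FintypeCat.comp_apply]
      exact congrArg _ (hs φ.unop) }

theorem exists_sections (hne : ∀ X : C, IsEmpty (F'.obj X) → Nonempty (IsInitial X)) :
    ∃ s : ∀ A : PointedGaloisObject F, F'.obj A.obj,
      ∀ {A B : PointedGaloisObject F} (φ : A ⟶ B), F'.map φ.val (s A) = s B := by
  let D : PointedGaloisObject F ⥤ Type v := PointedGaloisObject.incl F ⋙ F' ⋙ FintypeCat.incl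
  haveI hDn : ∀ A, Nonempty (D.obj A) := fun A => not_isEmpty_iff.1 fun h =>
    not_initial_of_inhabited F A.pt (hne A.obj h).some
  haveI hfi : ∀ A, Finite (D.obj A) := fun A => show Finite (F'.obj A.obj) from inferInstance
  obtain ⟨s, hs⟩ := nonempty_sections_of_finite_cofiltered_system D
  exact ⟨s, fun φ => hs φ⟩

theorem nonempty_hom_of_detects (hne : ∀ X : C, IsEmpty (F'.obj X) → Nonempty (IsInitial X)) :
    ∃ α : F ⟶ F', ∀ (A : PointedGaloisObject F), ∃ s : F'.obj A.obj, ∀ (X : C) (f : A.obj ⟶ X),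
      α.app X (F.map f A.pt) = F'.map f s := by
  obtain ⟨s, hs⟩ := exists_sections F F' hne
  generalize hd : (PointedGaloisObject.isColimit F).desc (sectionCocone F F' s hs) = d
  have hfac : ∀ A, (PointedGaloisObject.cocone F).ι.app A ≫ d = (sectionCocone F F' s hs).ι.app A := fun A =>
    hd ▸ (PointedGaloisObject.isColimit F).fac _ A
  let α : F ⟶ F' := ((Functor.FullyFaithful.ofFullyFaithful FintypeCat.incl.{v}).whiskeringRight C).preimage d
  have hα : ∀ X, FintypeCat.incl.map (α.app X) = d.app X := fun X =>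
    NatTrans.congr_app (((Functor.FullyFaithful.ofFullyFaithful FintypeCat.incl.{v}).whiskeringRight C).map_preimage d) X
  refine ⟨α, fun A => ⟨s A, fun X f => ?_⟩⟩
  have h := ConcreteCategory.congr_hom (NatTrans.congr_app (hfac (Opposite.op A)) X) f
  refine Eq.trans ?_ h
  exact ConcreteCategory.congr_hom (hα X) (F.map f A.pt)

include F in
theorem surjective_of_graphs [PreservesFiniteCoproducts F'] (A X : C) [PreGaloisCategory.IsConnected A]
    [IsIso (graphs A X)] (s : F'.obj A) (y : F'.obj X) : ∃ f : A ⟶ X, F'.map f s = y := by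
  let pt1 : FintypeCat.of PUnit.{v + 1} ⟶ F'.obj A := FintypeCat.homMk fun _ => s
  let pt2 : FintypeCat.of PUnit.{v + 1} ⟶ F'.obj X := FintypeCat.homMk fun _ => y
  obtain ⟨l, hl₁, hl₂⟩ := BinaryFan.IsLimit.lift' (mapIsLimitOfPreservesOfIsLimit F' prod.fst prod.snd (prodIsProd A X))
    pt1 pt2
  obtain ⟨q, hq⟩ := ((ConcreteCategory.isIso_iff_bijective (F'.map (graphs A X))).1 inferInstance).2 (l PUnit.unit)
  obtain ⟨⟨i⟩, p, hp⟩ := Concrete.isColimit_exists_rep _
    (isColimitOfPreserves F' (coproductIsCoproduct fun _ : Fin (Nat.card (A ⟶ X)) => A)) q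
  have hΓ : F'.map (prod.lift (𝟙 A) ((Finite.equivFin (A ⟶ X)).symm i)) p = l PUnit.unit := by
    rw [← hq, ← hp, ← ι_graphs]
    exact ConcreteCategory.congr_hom (F'.map_comp _ _) p
  have hps : p = s := by
    have h1 := congrArg (F'.map (prod.fst : A ⨯ X ⟶ A)) hΓ
    rw [← FintypeCat.comp_apply, ← F'.map_comp, prod.lift_fst, CategoryTheory.Functor.map_id] at h1
    exact h1.trans (ConcreteCategory.congr_hom hl₁ PUnit.unit)
  refine ⟨(Finite.equivFin (A ⟶ X)).symm i, ?_⟩
  have h1 := congrArg (F'.map (prod.snd : A ⨯ X ⟶ X)) hΓ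
  rw [← FintypeCat.comp_apply, ← F'.map_comp, prod.lift_snd] at h1
  rw [← hps]
  exact h1.trans (ConcreteCategory.congr_hom hl₂ PUnit.unit)

theorem nonempty_iso_of_detects [PreservesFiniteCoproducts F']
    (hne : ∀ X : C, IsEmpty (F'.obj X) → Nonempty (IsInitial X)) : Nonempty (F' ≅ F) := by
  obtain ⟨α, hα⟩ := nonempty_hom_of_detects F F' hne
  haveI : ∀ X, IsIso (α.app X) := fun X => by
    obtain ⟨A, a, hA, hb⟩ := exists_galois_representative F X
    obtain ⟨s, hs⟩ := hα ⟨A, a, hA⟩
    haveI := isIso_graphs F A X a hb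
    refine (ConcreteCategory.isIso_iff_bijective _).2 ⟨fun x y hxy => ?_, fun y => ?_⟩
    · obtain ⟨f, rfl⟩ := hb.2 x
      obtain ⟨g, rfl⟩ := hb.2 y
      rw [hs, hs] at hxy
      rw [eq_of_map_eq F F' s hxy]
    · obtain ⟨f, hf⟩ := surjective_of_graphs F F' A X s y
      exact ⟨F.map f a, (hs X f).trans hf⟩
  haveI := NatIso.isIso_of_isIso_app α
  exact ⟨(asIso α).symm⟩

theorem nonempty_iso_of_detects' (F F' : C ⥤ FintypeCat.{w}) [FiberFunctor F] [PreservesFiniteLimits F']
    [PreservesColimitsOfShape (Discrete WalkingPair) F']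
    (hne : ∀ X : C, IsEmpty (F'.obj X) → Nonempty (IsInitial X)) : Nonempty (F' ≅ F) := by
  let E := FintypeCat.uSwitchEquivalence.{w, v}
  letI : FiberFunctor (F ⋙ FintypeCat.uSwitch.{w, v}) := FiberFunctor.comp_right E.functor
  haveI : PreservesFiniteLimits E.functor :=
    ⟨fun J _ _ => inferInstance⟩
  haveI : PreservesFiniteLimits (F' ⋙ FintypeCat.uSwitch.{w, v}) := comp_preservesFiniteLimits F' E.functor
  haveI : PreservesColimitsOfShape (Discrete WalkingPair) (F' ⋙ FintypeCat.uSwitch.{w, v}) :=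
    haveI : PreservesColimitsOfShape (Discrete WalkingPair) E.functor := inferInstance
    comp_preservesColimitsOfShape F' E.functor
  haveI := preservesFiniteCoproducts_of_binary (F' ⋙ FintypeCat.uSwitch.{w, v})
  obtain ⟨e⟩ := nonempty_iso_of_detects (F ⋙ FintypeCat.uSwitch.{w, v}) (F' ⋙ FintypeCat.uSwitch.{w, v})
    fun X h => hne X ⟨fun x => h.elim ((FintypeCat.uSwitchEquiv (F'.obj X)).symm x)⟩
  exact ⟨(E.fullyFaithfulFunctor.whiskeringRight C).preimageIso e⟩

end Groth.Agent.GalFunc
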